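import Groth.Agent.Variety.K425.GenEtale
import Groth.Agent.CycB.FiniteFlat
import Groth.Agent.S7640
import Groth.Agent.Sga3C.DimTop
import Groth.Agent.Curves.K314.PointDeg
import Groth.Agent.Ega43.DedekindOpen

/-!
# The degree and the separability of a finite morphism, at the generic point (helper259)

* `isSeparable_ffMap`: separability of the residue field extension and of the function field extension;
* `finrank_eq_residueDegree`: the rank of a finite flat morphism of integral schemes.
-/

set_option autoImplicit false
universe u

open CategoryTheory CategoryTheory.Limits AlgebraicGeometry TopologicalSpace Opposite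
open Groth.Agent Groth.Agent.CycB Groth.Agent.CycB.FiberStalk

namespace K259.GenDeg

variable {X Y : Scheme.{u}} [IsIntegral X] [IsIntegral Y] (f : X ⟶ Y)

theorem residue_bijective_of_isField {Z : Scheme.{u}} (z : Z) (h : IsField (Z.presheaf.stalk z)) :
    Function.Bijective (Z.residue z).hom := by
  refine ⟨?_, Z.residue_surjective z⟩
  let _ := h.toField
  exact (Z.residue z).hom.injective

theorem isField_stalk_generic : IsField (X.presheaf.stalk (genericPoint X)) :=
  Field.toIsField X.functionField

theorem isSeparable_ffMap (e : f (genericPoint X) = genericPoint Y)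
    (h : letI := (f.residueFieldMap (genericPoint X)).hom.toAlgebra
      Algebra.IsSeparable (Y.residueField (f (genericPoint X))) (X.residueField (genericPoint X))) :
    @Algebra.IsSeparable Y.functionField X.functionField _ _ (K425.GenEtale.ffMap f e).toAlgebra := by
  let _ : Algebra (Y.residueField (f (genericPoint X))) (X.residueField (genericPoint X)) :=
    (f.residueFieldMap (genericPoint X)).hom.toAlgebra
  let _ : Algebra Y.functionField X.functionField := (K425.GenEtale.ffMap f e).toAlgebra
  have hY : IsField (Y.presheaf.stalk (f (genericPoint X))) := by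
    rw [e]; exact isField_stalk_generic
  let e1 : X.functionField ≃+* X.residueField (genericPoint X) :=
    RingEquiv.ofBijective (X.residue (genericPoint X)).hom (residue_bijective_of_isField _ isField_stalk_generic)
  let s : Y.functionField ≃+* Y.presheaf.stalk (f (genericPoint X)) :=
    (Y.presheaf.stalkCongr (Inseparable.of_eq e.symm)).commRingCatIsoToRingEquiv
  let e2 : Y.functionField ≃+* Y.residueField (f (genericPoint X)) :=
    s.trans (RingEquiv.ofBijective (Y.residue (f (genericPoint X))).hom (residue_bijective_of_isField _ hY))
  refine Algebra.IsSeparable.of_equiv_equiv e2.symm e1.symm ?_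
  ext a
  obtain ⟨b, rfl⟩ := e2.surjective a
  change K425.GenEtale.ffMap f e (e2.symm (e2 b)) = e1.symm ((f.residueFieldMap (genericPoint X)).hom (e2 b))
  rw [RingEquiv.symm_apply_apply, RingEquiv.eq_symm_apply]
  change (X.residue (genericPoint X)).hom ((Y.presheaf.stalkSpecializes (specializes_of_eq e) ≫
    f.stalkMap (genericPoint X)).hom b) = (f.residueFieldMap (genericPoint X)).hom
      ((Y.residue (f (genericPoint X))).hom (s b))
  have h1 : (f.residueFieldMap (genericPoint X)).hom ((Y.residue (f (genericPoint X))).hom (s b)) =
      (X.residue (genericPoint X)).hom ((f.stalkMap (genericPoint X)).hom (s b)) :=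
    congr($(Scheme.residue_residueFieldMap f (genericPoint X)).hom (s b))
  rw [h1]
  rfl

theorem isClosed_singleton_map {X Y : Scheme.{u}} (f : X ⟶ Y) [IsFinite f] (x : X) (hx : IsClosed ({x} : Set X)) :
    IsClosed ({f x} : Set Y) := by
  have h := f.isClosedMap _ hx
  rwa [Set.image_singleton] at h

/-- The generic point is the only point of a curve over the generic point. -/
theorem eq_genericPoint_of_map_eq [IsFinite f] (hX : topologicalKrullDim X ≤ 1) (hY : topologicalKrullDim Y = 1)
    (x : X) (hx : f x = genericPoint Y) : x = genericPoint X := by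
  by_contra hne
  have h1 := isClosed_singleton_map f x (S7640.isClosed_singleton hX x hne)
  rw [hx] at h1
  have h2 : closure {genericPoint Y} = (Set.univ : Set Y) := (genericPoint_spec Y).def
  rw [h1.closure_eq] at h2
  have hs : Subsingleton Y := by
    refine ⟨fun a b => ?_⟩
    have ha : a ∈ ({genericPoint Y} : Set Y) := h2 ▸ Set.mem_univ a
    have hb : b ∈ ({genericPoint Y} : Set Y) := h2 ▸ Set.mem_univ b
    rw [Set.mem_singleton_iff.mp ha, Set.mem_singleton_iff.mp hb]
  have h3 : topologicalKrullDim Y ≤ 0 := by
    have h8 : Subsingleton (TopologicalSpace.IrreducibleCloseds Y) := by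
      refine ⟨fun a b => ?_⟩
      apply TopologicalSpace.IrreducibleCloseds.ext
      rw [a.isIrreducible.nonempty.eq_univ, b.isIrreducible.nonempty.eq_univ]
    exact Order.krullDim_nonpos_of_subsingleton
  rw [hY] at h3
  exact absurd h3 (by decide)

/-- A finite morphism of integral curves maps the generic point to the generic point. -/
theorem map_genericPoint_of_isFinite [IsFinite f] (hX : topologicalKrullDim X = 1)
    (hY : topologicalKrullDim Y ≤ 1) : f (genericPoint X) = genericPoint Y := by
  by_contra hne
  have h1 := S7640.isClosed_singleton hY _ hne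
  have h2 : ∀ a : X, f a = f (genericPoint X) := fun a => by
    have h3 : f (genericPoint X) ⤳ f a := (genericPoint_specializes a).map f.continuous
    have h4 := h3.mem_closure
    rw [h1.closure_eq] at h4
    exact h4
  have h : Subsingleton X := ⟨fun a b => by
    have ha : genericPoint X = a := Sga3C.DimTop.eq_of_specializes_of_isIntegralHom f _ _
      (genericPoint_specializes a) (h2 a).symm
    have hb : genericPoint X = b := Sga3C.DimTop.eq_of_specializes_of_isIntegralHom f _ _
      (genericPoint_specializes b) (h2 b).symm
    rw [← ha, ← hb]⟩
  have h3 : topologicalKrullDim X ≤ 0 := by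
    have : Subsingleton (IrreducibleCloseds X) := ⟨fun A B => by
      apply IrreducibleCloseds.ext
      have key : ∀ A : IrreducibleCloseds X, (A : Set X) = Set.univ := fun A => by
        obtain ⟨a, ha⟩ := A.isIrreducible.nonempty
        ext z
        simp only [Set.mem_univ, iff_true]
        rwa [Subsingleton.elim z a]
      rw [key A, key B]⟩
    exact Order.krullDim_nonpos_of_subsingleton
  rw [hX] at h3
  exact absurd h3 (by decide)

/-- The rank of a finite flat morphism of integral schemes is the degree of the extension of the function fields. -/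
theorem finrank_eq_residueDegree [IsFinite f] [Flat f] [LocallyOfFinitePresentation f]
    (hξ : f (genericPoint X) = genericPoint Y) (huniq : ∀ x : X, f x = genericPoint Y → x = genericPoint X) (y : Y) :
    Scheme.Hom.finrank f y = f.residueDegree (genericPoint X) := by
  have h0 : Scheme.Hom.finrank f y = Scheme.Hom.finrank f (genericPoint Y) :=
    (Scheme.Hom.isLocallyConstant_finrank f).apply_eq_of_preconnectedSpace y (genericPoint Y)
  rw [h0]
  have hset : {x : X | f x = genericPoint Y} = {genericPoint X} := by
    ext x
    exact ⟨fun hx => huniq x hx, fun hx => by rw [Set.mem_singleton_iff.mp hx]; exact hξ⟩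
  have h1 := FiniteFlat.finsum_finite_flat f (genericPoint Y)
  rw [hset, finsum_mem_singleton] at h1
  rw [← h1]
  have hfield : IsField (X.presheaf.stalk (genericPoint X)) := isField_stalk_generic
  have hmax : (fibIdeal f (genericPoint X)).IsMaximal := by
    have h4 : fibIdeal f (genericPoint X) = ⊥ := by
      let _ := hfield.toField
      exact (Ideal.eq_bot_or_top _).resolve_right (fibIdeal_ne_top _ _)
    rw [h4]
    let _ := hfield.toField
    exact Ideal.bot_isMaximal
  have hlen : Module.length (X.presheaf.stalk (genericPoint X))
      (X.presheaf.stalk (genericPoint X) ⧸ fibIdeal f (genericPoint X)) = 1 :=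
    Module.length_eq_one_iff.2 (isSimpleModule_iff_isCoatom.2 hmax.out)
  rw [hlen]
  change 1 * _ = _
  rw [one_mul]

/-- The local rings of a normal curve are principal. -/
theorem stalk_pid {Y : Scheme.{u}} [IsIntegral Y] [IsLocallyNoetherian Y] (hdim : topologicalKrullDim Y = 1)
    (hN : Pi1.IsNormalScheme Y) (y : Y) :
    IsDomain (Y.presheaf.stalk y) ∧ IsPrincipalIdealRing (Y.presheaf.stalk y) := by
  refine ⟨inferInstance, ?_⟩
  by_cases hy : y = genericPoint Y
  · subst hy
    exact inferInstanceAs (IsPrincipalIdealRing Y.functionField)
  · have hy' := S7640.isClosed_singleton hdim.le y hy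
    obtain ⟨ϖ, h1, h2⟩ := K314.PointDeg.exists_uniformizer hdim y hy' (hN y).2
    have h3 : ¬ IsField (Y.presheaf.stalk y) := fun h => by
      rw [IsLocalRing.isField_iff_maximalIdeal_eq, h1, Ideal.span_singleton_eq_bot] at h
      exact h2 h
    have h4 : IsDiscreteValuationRing (Y.presheaf.stalk y) :=
      ((IsDiscreteValuationRing.TFAE (Y.presheaf.stalk y) h3).out 0 4 :
        IsDiscreteValuationRing (Y.presheaf.stalk y) ↔
          (IsLocalRing.maximalIdeal (Y.presheaf.stalk y)).IsPrincipal).mpr ⟨ϖ, h1⟩
    infer_instance

open Groth.Agent.Ega43.MaxPoints in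
/-- An integral scheme dominating a normal curve is flat over it. -/
theorem flat_of_curve (e : f (genericPoint X) = genericPoint Y)
    (hv : ∀ y : Y, IsDomain (Y.presheaf.stalk y) ∧ IsPrincipalIdealRing (Y.presheaf.stalk y)) : Flat f := by
  refine Groth.Agent.Ega43.DedekindOpen.flat_of_isMaxPt f hv ?_
  intro w hw
  have h1 : genericPoint X = w := hw _ (genericPoint_specializes w)
  rw [← h1, e]
  intro z hz
  exact (hz.antisymm (genericPoint_specializes z)).eq

end K259.GenDeg
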