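import Groth.Agent.Curves.K259.TwoPts
import Groth.Agent.JacVar.K533.CurveH1
import Groth.Agent.Pic13.K243.ZeroInv
import Groth.Agent.Models.H50.PointInter
import Groth.Agent.Ega1.ReducedSub
import Groth.Agent.CurvesB.VABaseChange
import Groth.Agent.Ega3B.ProjProper
import Groth.Agent.S1604
import Groth.Agent.S0023

/-!
# Points and invertible modules of degree one
-/

set_option autoImplicit false
universe u
open CategoryTheory CategoryTheory.Limits AlgebraicGeometry Opposite TopologicalSpace

namespace K259.GenusOne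

open Groth.Agent Groth.Agent.Dix.InterNum Groth.Agent.Grpsch.PicGrp Groth.Agent.Fdesc.LocGen

/-- The vanishing ideal of a closed point. -/
theorem vanishingIdeal_point {C : Scheme.{u}} (y : C) (hy : IsClosed ({y} : Set C)) :
    Scheme.IdealSheafData.vanishingIdeal ⟨{y}, hy⟩ = (C.fromSpecResidueField y).ker := by
  have hcl : IsClosedImmersion (C.fromSpecResidueField y) :=
    isClosed_singleton_iff_isClosedImmersion.mp hy
  rw [Ega1.ReducedSub.ker_eq_vanishingIdeal]
  congr 1
  ext1
  change ({y} : Set C) = closure (Set.range (C.fromSpecResidueField y))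
  rw [Scheme.range_fromSpecResidueField, hy.closure_eq]

/-- A module with nonzero `H^0` has a nonzero section. -/
theorem exists_ne_zero {X : Scheme.{u}} {M : X.Modules} (h : Nontrivial (Coh.HH X M 0)) :
    ∃ s : Coh.structureModule X ⟶ M, s ≠ 0 := by
  by_contra hcon
  push Not at hcon
  have h3 : Subsingleton Γ(M, ⊤) := by
    refine subsingleton_of_forall_eq 0 fun m => ?_
    have h4 := hcon (homOf m)
    have h5 := sec_homOf m ⊤
    rw [h4, res_refl] at h5
    exact h5.symm
  have h6 : Subsingleton (Coh.HH X M 0) := (CurvesB.HZero.equivAdd M).toEquiv.subsingleton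
  exact not_subsingleton _ h6

/-- An invertible module of degree one with a nonzero section is `O(P)` for a rational point `P`. -/
theorem exists_point (k : Type u) [Field k] (X : Scheme.{u}) [X.Over (Spec (CommRingCat.of k))]
    [IsIntegral X] [IsProper (X ↘ Spec (CommRingCat.of k))] (hdim : topologicalKrullDim X = 1)
    {M : X.Modules} (hM : PicF.IsInvertible M) (hdeg : Curv2.deg k X M 1 = 1)
    (s : Coh.structureModule X ⟶ M) (hs : s ≠ 0) :
    ∃ P : X, IsClosed ({P} : Set X) ∧ Function.Bijective (Curv2.resMap k X P) ∧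
      ClSub.IsInverseOf M (ClSub.idealMod (X.fromSpecResidueField P).ker) := by
  have hZ := K243.ZeroInv.isEffCartier_zeroScheme hM s hs
  have hMZ := K243.ZeroInv.isInverseOf_idealMod hM s hs
  generalize PicF2.zeroScheme M s = Z at hZ hMZ
  have hfin : IsFinite (Z.subschemeι ≫ (X ↘ Spec (CommRingCat.of k))) :=
    (S1604.result k X hdim.le Z hZ M hM hMZ 1 M (Ega2.QCohLocal.isFinLocFreeOfRank_one_iff.2 hM)).1
  have hd : Module.finrank k (Coh.HH X (ClSub.quotMod Z) 0) = 1 := by
    have := deg_of_effCartier k X hdim Z hZ M hMZ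
    omega
  have h1 : h0 (Z.subschemeι ≫ (X ↘ Spec (CommRingCat.of k))) = 1 := by
    rw [← finrank_quotMod]; exact hd
  have hiso : IsIso (Z.subschemeι ≫ (X ↘ Spec (CommRingCat.of k))) := Models.H50.PointInter.isIso_of_h0_one _ h1
  let σ : Spec (CommRingCat.of k) ⟶ X := inv (Z.subschemeι ≫ (X ↘ Spec (CommRingCat.of k))) ≫ Z.subschemeι
  have hσ : σ ≫ (X ↘ Spec (CommRingCat.of k)) = 𝟙 _ := by
    rw [Category.assoc, IsIso.inv_hom_id]
  have hker : σ.ker = Z := by
    rw [show σ.ker = Z.subschemeι.ker from Scheme.Hom.ker_comp_of_isIso _ _]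
    exact Scheme.IdealSheafData.ker_subschemeι _
  have hk := K259.TwoPts.ker_eq k σ hσ
  refine ⟨K708.RatPt.pt k σ, ?_, ⟨(Curv2.resMap k X _).injective, K708.RatPt.resMap_surjective k σ hσ⟩, ?_⟩
  · exact K708.RatPt.isClosed_pt k σ hσ
  · rw [← hk, hker]; exact hMZ

/-- A curve isomorphic to the projective line has genus zero. -/
theorem genus_eq_zero (k : Type u) [Field k] (X : Scheme.{u}) [X.Over (Spec (CommRingCat.of k))]
    (e : X ≅ CohB1.ProjSpace 1 k) (he : e.hom ≫ CohB1.ProjSpace.toSpec 1 k = X ↘ (Spec (CommRingCat.of k))) :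
    Curv2.genus k X = 0 := by
  let _ : (CohB1.ProjSpace 1 k).Over (Spec (CommRingCat.of k)) := ⟨CohB1.ProjSpace.toSpec 1 k⟩
  have hid : Spec.map (CommRingCat.ofHom (algebraMap k k)) = 𝟙 (Spec (CommRingCat.of k)) := Spec.map_id _
  have hpb : IsPullback e.hom (X ↘ Spec (CommRingCat.of k)) (CohB1.ProjSpace 1 k ↘ Spec (CommRingCat.of k))
      (Spec.map (CommRingCat.ofHom (algebraMap k k))) := by
    rw [hid]
    exact IsPullback.of_horiz_isIso ⟨by rw [Category.comp_id]; exact he⟩
  have hP : IsProper (CohB1.ProjSpace 1 k ↘ Spec (CommRingCat.of k)) := Ega3B.ProjProper.isProper_toSpec 1 k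
  rw [CurvesB.VABaseChange.genus_eq hpb]
  have : Subsingleton (Coh.HH (CohB1.ProjSpace 1 k) (Coh.structureModule _) 1) :=
    S0023.result 1 k 1 Nat.one_pos
  exact Module.finrank_zero_of_subsingleton

end K259.GenusOne
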