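import Groth.Agent.RatCurve.K915.Luroth
import Groth.Agent.Curves.K322.CurveIso
import Groth.Agent.Curves.K314.PointDeg
import Groth.Agent.Ega1.GenPts
import Groth.Agent.Ega3B.ProjProper
import Groth.Agent.Sga5.ProjSmooth
import Groth.Agent.Lefpen.H723.P1Flat
import Groth.Agent.Lefpen.H717.ProjIrr
import Groth.Agent.VarietyB.ResMap
import Groth.Agent.S1619
import Groth.Agent.S7640

/-!
# Lüroth's theorem for curves (helper259)

* `isIntegral_of_normal`, `valuationRing_stalk`: normal curves;
* `base_genericPoint_of_nonconstant`;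
* `exists_iso_P1`: a normal proper curve dominated by the projective line is the projective line.
-/

set_option autoImplicit false
universe u

open CategoryTheory CategoryTheory.Limits AlgebraicGeometry TopologicalSpace Opposite Module

namespace K259.LurothCurve

/-- A connected locally noetherian normal scheme is integral. -/
theorem isIntegral_of_normal {X : Scheme.{u}} [IsLocallyNoetherian X] [ConnectedSpace X]
    (hN : Pi1.IsNormalScheme X) : IsIntegral X :=
  (Groth.Agent.Ega1.GenPts.isIntegral_iff X).2 ⟨inferInstance, fun x => (hN x).1⟩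

/-- The local rings of a normal curve are valuation rings. -/
theorem valuationRing_stalk {X : Scheme.{u}} [IsIntegral X] [IsLocallyNoetherian X]
    (hdim : topologicalKrullDim X = 1) (hN : Pi1.IsNormalScheme X) (x : X) : ValuationRing (X.presheaf.stalk x) := by
  by_cases hx : x = genericPoint X
  · subst hx
    exact inferInstanceAs (ValuationRing X.functionField)
  · have hx' := Groth.Agent.S7640.isClosed_singleton hdim.le x hx
    obtain ⟨ϖ, h1, h2⟩ := K314.PointDeg.exists_uniformizer hdim x hx' (hN x).2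
    have h3 : ¬ IsField (X.presheaf.stalk x) := fun h => by
      rw [IsLocalRing.isField_iff_maximalIdeal_eq, h1, Ideal.span_singleton_eq_bot] at h
      exact h2 h
    have h4 : IsDiscreteValuationRing (X.presheaf.stalk x) :=
      ((IsDiscreteValuationRing.TFAE (X.presheaf.stalk x) h3).out 0 4 :
        IsDiscreteValuationRing (X.presheaf.stalk x) ↔
          (IsLocalRing.maximalIdeal (X.presheaf.stalk x)).IsPrincipal).mpr ⟨ϖ, h1⟩
    infer_instance

/-- A nonconstant map from an irreducible scheme to an integral curve maps the generic point to the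
generic point. -/
theorem base_genericPoint_of_nonconstant {X Y : Scheme.{u}} [IrreducibleSpace X] [IsIntegral Y]
    (hdim : topologicalKrullDim Y ≤ 1) (f : X ⟶ Y) (hnc : ∃ a b : X, f.base a ≠ f.base b) :
    f (genericPoint X) = genericPoint Y := by
  by_contra hne
  have h1 := Groth.Agent.S7640.isClosed_singleton hdim _ hne
  have h2 : ∀ a : X, f.base a = f (genericPoint X) := fun a => by
    have h3 : f (genericPoint X) ⤳ f.base a := (genericPoint_specializes a).map f.continuous
    have h4 := h3.mem_closure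
    rw [h1.closure_eq] at h4
    exact h4
  obtain ⟨a, b, hab⟩ := hnc
  exact hab ((h2 a).trans (h2 b).symm)

theorem exists_stalk_iso {X Y : Scheme.{u}} (f : X ⟶ Y) [IsOpenImmersion f] {x : X} {y : Y} (h : f x = y) :
    ∃ φ : Y.presheaf.stalk y ≅ X.presheaf.stalk x,
      Spec.map φ.hom ≫ Y.fromSpecStalk y = X.fromSpecStalk x ≫ f := by
  subst h
  exact ⟨asIso (f.stalkMap x), Scheme.SpecMap_stalkMap_fromSpecStalk _⟩

theorem exists_stalk_map {X Y : Scheme.{u}} (f : X ⟶ Y) {x : X} {y : Y} (h : f x = y) :
    ∃ φ : Y.presheaf.stalk y ⟶ X.presheaf.stalk x,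
      Spec.map φ ≫ Y.fromSpecStalk y = X.fromSpecStalk x ≫ f := by
  subst h
  exact ⟨f.stalkMap x, Scheme.SpecMap_stalkMap_fromSpecStalk _⟩

theorem topologicalKrullDim_ne_zero_of (k : Type u) [Field k] (C : Scheme.{u}) [C.Over (Spec (CommRingCat.of k))]
    [IsIntegral C] [LocallyOfFiniteType (C ↘ Spec (CommRingCat.of k))] (hdim : topologicalKrullDim C = 1) :
    ¬ Function.Surjective (Curv2.stalkMap k C (genericPoint C)) := by
  intro hs
  have h1 : (@Algebra.trdeg k (C.residueField (genericPoint C)) _ _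
      (Curv2.resAlgebra k C _)) = (0 : ℕ) := by
    let _ := Curv2.resAlgebra k C (genericPoint C)
    have h3 : Algebra.IsAlgebraic k (C.residueField (genericPoint C)) := by
      constructor
      intro x
      obtain ⟨y, rfl⟩ := C.residue_surjective _ x
      obtain ⟨c, rfl⟩ := hs y
      exact isAlgebraic_algebraMap (A := C.residueField (genericPoint C)) c
    rw [Nat.cast_zero]
    exact _root_.trdeg_eq_zero
  have h2 := Groth.Agent.S1619.result k C 0 h1
  rw [hdim] at h2
  exact absurd h2 (by simp)

open Groth.Agent.Sga5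

theorem exists_functionField_aux (k : Type u) [Field k] (P : Scheme.{u}) [P.Over (Spec (CommRingCat.of k))]
    [IsIntegral P] (R : CommRingCat.{u}) [IsDomain R] (cR : CommRingCat.of k ⟶ R) (e0 : R ≃+* Polynomial k)
    (hc : ∀ c, e0 (cR.hom c) = Polynomial.C c) (j : Spec R ⟶ P) [IsOpenImmersion j]
    (hj : j ≫ (P ↘ Spec (CommRingCat.of k)) = Spec.map cR) :
    ∃ e : P.functionField ≃+* RatFunc k,
      ∀ c, e (Curv2.stalkMap k P (genericPoint P) c) = algebraMap k (RatFunc k) c := by
  have hgen : j (genericPoint (Spec R)) = genericPoint P := by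
    have h1 : IsGenericPoint (j (genericPoint (Spec R))) Set.univ := by
      have h2 := (genericPoint_spec (Spec R)).image j.continuous
      have h3 : DenseRange j := j.isOpenEmbedding.isOpen_range.dense ⟨_, ⟨Classical.arbitrary _, rfl⟩⟩
      rw [Set.image_univ, h3.closure_range] at h2
      exact h2
    exact h1.eq (genericPoint_spec _)
  obtain ⟨φ, hφ⟩ := exists_stalk_iso j hgen
  obtain ⟨e, he⟩ := K915.Luroth.exists_ratFunc_aux k R e0
  refine ⟨φ.commRingCatIsoToRingEquiv.trans e, fun c => ?_⟩
  have h1 : CommRingCat.ofHom (Curv2.stalkMap k P (genericPoint P)) ≫ φ.hom =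
      cR ≫ CommRingCat.ofHom (S := (Spec R).functionField) (algebraMap R (Spec R).functionField) := by
    apply Spec.map_injective
    rw [Spec.map_comp, Spec.map_comp, Groth.Agent.VarietyB.ResMap.specMap_stalkMap, ← K915.Luroth.fromSpecStalk_eq,
      ← hj, reassoc_of% hφ]
  have h2 : φ.hom.hom (Curv2.stalkMap k P (genericPoint P) c) =
      algebraMap R (Spec R).functionField (cR.hom c) := congr($(h1).hom c)
  change e (φ.hom.hom (Curv2.stalkMap k P (genericPoint P) c)) = _
  rw [h2]
  refine (he _).trans ?_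
  rw [hc]
  rfl

/-- The function field of the projective line. -/
theorem exists_functionField_P1 (k : Type u) [Field k] [IsIntegral (CohB1.ProjSpace 1 k)] :
    ∃ e : (CohB1.ProjSpace 1 k).functionField ≃+* RatFunc k,
      ∀ c, e ((@Curv2.stalkMap k _ (CohB1.ProjSpace 1 k) ⟨CohB1.ProjSpace.toSpec 1 k⟩ (genericPoint _)) c) =
        algebraMap k (RatFunc k) c := by
  let _ : (CohB1.ProjSpace 1 k).Over (Spec (CommRingCat.of k)) := ⟨CohB1.ProjSpace.toSpec 1 k⟩
  exact exists_functionField_aux k (CohB1.ProjSpace 1 k) (CommRingCat.of (MvPolynomial (Fin 1) k))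
    (CommRingCat.ofHom MvPolynomial.C) (MvPolynomial.uniqueAlgEquiv k (Fin 1)).toRingEquiv
    (fun c => (MvPolynomial.uniqueAlgEquiv k (Fin 1)).commutes c) (ProjSmooth.chart 1 k 0)
    (ProjSmooth.chart_toSpec 1 k 0)

theorem isNormal_P1 (k : Type u) [Field k] (x : CohB1.ProjSpace 1 k) :
    ValuationRing ((CohB1.ProjSpace 1 k).presheaf.stalk x) := by
  obtain ⟨h1, h2⟩ := Groth.Agent.Lefpen.H723.P1Flat.stalk_pid k x
  have : IsBezout ((CohB1.ProjSpace 1 k).presheaf.stalk x) := inferInstance
  infer_instance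

/-- A normal proper curve dominated by the projective line is isomorphic to it. -/
theorem exists_iso_P1 (k : Type u) [Field k] {X : Scheme.{u}} (p : X ⟶ Spec (CommRingCat.of k))
    [IsIntegral X] [IsProper p] (hN : Pi1.IsNormalScheme X) (hdim : topologicalKrullDim X = 1)
    [IsIntegral (CohB1.ProjSpace 1 k)]
    (f : CohB1.ProjSpace 1 k ⟶ X) (hf : f ≫ p = CohB1.ProjSpace.toSpec 1 k)
    (hgen : f (genericPoint _) = genericPoint X) :
    ∃ e : X ≅ CohB1.ProjSpace 1 k, e.hom ≫ CohB1.ProjSpace.toSpec 1 k = p := by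
  let _ : (CohB1.ProjSpace 1 k).Over (Spec (CommRingCat.of k)) := ⟨CohB1.ProjSpace.toSpec 1 k⟩
  let _ : X.Over (Spec (CommRingCat.of k)) := ⟨p⟩
  have hp : IsProper (X ↘ Spec (CommRingCat.of k)) := ‹IsProper p›
  have hn : IsLocallyNoetherian X := LocallyOfFiniteType.isLocallyNoetherian p
  have hP : IsProper (CohB1.ProjSpace.toSpec 1 k) := Groth.Agent.Ega3B.ProjProper.isProper_toSpec 1 k
  obtain ⟨φ, hφ⟩ := exists_stalk_map f hgen
  have hcomp : ∀ c, φ.hom (Curv2.stalkMap k X (genericPoint X) c) =
      Curv2.stalkMap k (CohB1.ProjSpace 1 k) (genericPoint _) c := by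
    intro c
    have h1 : CommRingCat.ofHom (Curv2.stalkMap k X (genericPoint X)) ≫ φ =
        CommRingCat.ofHom (Curv2.stalkMap k (CohB1.ProjSpace 1 k) (genericPoint _)) := by
      apply Spec.map_injective
      rw [Spec.map_comp, Groth.Agent.VarietyB.ResMap.specMap_stalkMap, Groth.Agent.VarietyB.ResMap.specMap_stalkMap,
        reassoc_of% hφ]
      congr 1
    exact congr($(h1).hom c)
  obtain ⟨e, he⟩ := exists_functionField_P1 k
  obtain ⟨ψ, hψ⟩ := K915.Luroth.luroth (L := X.functionField) (M := (CohB1.ProjSpace 1 k).functionField)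
    (Curv2.stalkMap k X (genericPoint X)) (Curv2.stalkMap k (CohB1.ProjSpace 1 k) (genericPoint _)) e he φ.hom hcomp
    (topologicalKrullDim_ne_zero_of k X hdim)
  let ψ' : X.functionField ≅ (CohB1.ProjSpace 1 k).functionField := ψ.toCommRingCatIso
  have hψ' : CommRingCat.ofHom (Curv2.stalkMap k X (genericPoint X)) ≫ ψ'.hom =
      CommRingCat.ofHom (Curv2.stalkMap k (CohB1.ProjSpace 1 k) (genericPoint _)) := by
    ext c
    exact hψ c
  let E : Spec X.functionField ≅ Spec (CohB1.ProjSpace 1 k).functionField :=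
    ⟨Spec.map ψ'.inv, Spec.map ψ'.hom, by rw [← Spec.map_comp, ψ'.hom_inv_id, Spec.map_id],
      by rw [← Spec.map_comp, ψ'.inv_hom_id, Spec.map_id]⟩
  obtain ⟨i, hi, -⟩ := K322.CurveIso.exists_iso_of_functionField p (CohB1.ProjSpace.toSpec 1 k)
    (valuationRing_stalk hdim hN) (isNormal_P1 k) E (by
      have h1 : (CohB1.ProjSpace 1 k).fromSpecStalk (genericPoint _) ≫ CohB1.ProjSpace.toSpec 1 k =
          Spec.map (CommRingCat.ofHom (Curv2.stalkMap k (CohB1.ProjSpace 1 k) (genericPoint _))) :=
        (Groth.Agent.VarietyB.ResMap.specMap_stalkMap k (CohB1.ProjSpace 1 k) (genericPoint _)).symm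
      have h2 : X.fromSpecStalk (genericPoint X) ≫ p =
          Spec.map (CommRingCat.ofHom (Curv2.stalkMap k X (genericPoint X))) :=
        (Groth.Agent.VarietyB.ResMap.specMap_stalkMap k X (genericPoint X)).symm
      rw [h1, h2, ← hψ', Spec.map_comp, ← Category.assoc, E.hom_inv_id, Category.id_comp])
  exact ⟨i, hi⟩

end K259.LurothCurve
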