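import Groth.Agent.Curves.K314.PointDeg
import Groth.Agent.VBCurve.K708.Coho
import Groth.Agent.VarietyB.DegPhi
import Groth.Agent.VarietyB.RestrSeq
import Groth.Agent.Fga.TwistCoh
import Groth.Agent.PicF.K246.Basic
import Groth.Agent.Fdesc.LocGenPullback
import Groth.Agent.CurvesC.DualDeg

/-!
# Twisting an invertible module by a closed point (helper259)

* `nonempty_tensor_quotMod`: `L ⊗ O_x ≅ O_x` for a closed point `x`;
* `h0_le`, `h0_le_add`: `h^0(L(-x)) ≤ h^0(L) ≤ h^0(L(-x)) + [κ(x):k]`.
-/

set_option autoImplicit false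
universe u

open CategoryTheory CategoryTheory.Limits AlgebraicGeometry TopologicalSpace Opposite Module
open Groth.Agent

namespace K259.PtTens

attribute [local instance] Curv2.resAlgebra

theorem nonempty_iso_of_subsingleton {Z : Scheme.{u}} [Subsingleton Z] [Nonempty Z] {L : Z.Modules} (hL : PicF.IsInvertible L) :
    Nonempty (L ≅ Coh.structureModule Z) := by
  rw [Fdesc.LocGen.isInvertible_iff] at hL
  obtain ⟨z⟩ := ‹Nonempty Z›
  obtain ⟨U, e, hz, he⟩ := hL z
  obtain rfl : U = ⊤ := by
    ext y
    constructor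
    · intro _; trivial
    · intro _
      rw [Subsingleton.elim y z]
      exact hz
  exact K246.Basic.nonempty_iso_of_isGen_top he

/-- `L ⊗ O_x ≅ O_x`. -/
theorem nonempty_tensor_quotMod (X : Scheme.{u}) (x : X) [IsClosedImmersion (X.fromSpecResidueField x)] {L : X.Modules}
    (hL : PicF.IsInvertible L) :
    Nonempty (CohB1.tensorMod L (ClSub.quotMod (X.fromSpecResidueField x).ker) ≅
      ClSub.quotMod (X.fromSpecResidueField x).ker) := by
  have hE : VarietyB.TensCoh.HasBases L :=
    VarietyB.TensCoh.HasBases.of_isFinLocFreeOfRank (Ega2.QCohLocal.isFinLocFreeOfRank_one_iff.mpr hL)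
  have e1 := VarietyB.ProjForm.projIsoUnit (X.fromSpecResidueField x).ker.subschemeι hE
  have i0 : Spec (X.residueField x) ≅ (X.fromSpecResidueField x).ker.subscheme := asIso (X.fromSpecResidueField x).toImage
  have hs : Subsingleton (X.fromSpecResidueField x).ker.subscheme := by
    have : Subsingleton (Spec (X.residueField x)) := inferInstanceAs (Subsingleton (PrimeSpectrum (X.residueField x)))
    exact (Scheme.homeoOfIso i0).symm.injective.subsingleton
  have hn : Nonempty (X.fromSpecResidueField x).ker.subscheme := by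
    have : Nonempty (Spec (X.residueField x)) := inferInstanceAs (Nonempty (PrimeSpectrum (X.residueField x)))
    exact this.map (Scheme.homeoOfIso i0)
  obtain ⟨e2⟩ := nonempty_iso_of_subsingleton
    (Fdesc.LocGen.isInvertible_pullback (X.fromSpecResidueField x).ker.subschemeι hL)
  exact ⟨e1 ≪≫ (Coh.push _).mapIso e2⟩

variable (k : Type u) [Field k] (X : Scheme.{u}) [X.Over (Spec (CommRingCat.of k))]
  [IsProper (X ↘ Spec (CommRingCat.of k))]

omit [IsProper (X ↘ Spec (CommRingCat.of k))] in
theorem h0_congr {M N : X.Modules} (e : M ≅ N) (n : ℕ) :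
    Module.finrank k (Coh.HH X M n) = Module.finrank k (Coh.HH X N n) :=
  (VarietyA.EulerLES.equivA k e n).finrank_eq

theorem h0_le_and_le_add (x : X) (hx : IsClosed ({x} : Set X)) {L : X.Modules} (hL : PicF.IsInvertible L) :
    Module.finrank k (Coh.HH X (CohB1.tensorMod L (ClSub.idealMod (X.fromSpecResidueField x).ker)) 0) ≤
        Module.finrank k (Coh.HH X L 0) ∧
      Module.finrank k (Coh.HH X L 0) ≤
        Module.finrank k (Coh.HH X (CohB1.tensorMod L (ClSub.idealMod (X.fromSpecResidueField x).ker)) 0) +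
          Module.finrank k (X.residueField x) := by
  have hcl : IsClosedImmersion (X.fromSpecResidueField x) := isClosed_singleton_iff_isClosedImmersion.mp hx
  have hn : IsLocallyNoetherian X := LocallyOfFiniteType.isLocallyNoetherian (X ↘ Spec (CommRingCat.of k))
  have hS := VarietyB.RestrSeq.idealSeq_shortExact (X.fromSpecResidueField x).ker
  have hT := Fga.TwistCoh.shortExact_tensorBi hL _ hS
  have hE : VarietyB.TensCoh.HasBases L :=
    VarietyB.TensCoh.HasBases.of_isFinLocFreeOfRank (Ega2.QCohLocal.isFinLocFreeOfRank_one_iff.mpr hL)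
  have c1 : Coh.IsCoh (CohB1.tensorMod L (ClSub.idealMod (X.fromSpecResidueField x).ker)) :=
    VarietyB.TensCoh.isCoh_tensorMod hE (CurvesC.DualDeg.isCoh_idealMod _)
  have c2 : Coh.IsCoh (CohB1.tensorMod L (Coh.structureModule X)) :=
    VarietyB.TensCoh.isCoh_tensorMod hE (CurvesB.UnitCoh.isCoh_structureModule X)
  have c3 : Coh.IsCoh (CohB1.tensorMod L (ClSub.quotMod (X.fromSpecResidueField x).ker)) :=
    VarietyB.TensCoh.isCoh_tensorMod hE (CurvesC.DualDeg.isCoh_quotMod _)
  have e2 := h0_congr k X (Ega2.Tens.runit L) 0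
  obtain ⟨e3⟩ := nonempty_tensor_quotMod X x hL
  have e4 := h0_congr k X e3 0
  rw [K314.PointDeg.finrank_quotMod_point k X x] at e4
  have h1 := @K708.Coho.finrank_H0_le_of_mono k _ X _ _ _ _ c2
    (((VarietyB.RestrSeq.idealSeq (X.fromSpecResidueField x).ker).map (DCoh.tensorBi.obj L)).f) hT.mono_f
  have h2 := K708.Coho.finrank_HH_le_add k (X := X) hT c1 c2 c3 0
  refine ⟨e2 ▸ h1, ?_⟩
  rw [← e2, ← e4]
  exact h2

end K259.PtTens
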