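import Groth.Agent.Curves.K314.P1Recog
import Groth.Agent.Curves.K314.PointDeg
import Groth.Agent.AlgGrp.K396.SepClPts
import Groth.Agent.VarietyA.RegSmoothSch
import Groth.Agent.VBCurve.K708.Coho
import Groth.Agent.VBCurve.K708.RatPt
import Groth.Agent.S9829

/-!
# Rational points on curves (helper259)

* `finrank_residueField_eq_one`: the residue field at a rational point is the ground field;
* `isClosed_pt`: rational points of separated schemes are closed;
* `exists_smooth_point`: a geometrically reduced scheme locally of finite type over a separably closed field has a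
  rational point in its smooth locus;
* `exists_uniformizer_of_mem_smoothLocus`.
-/

set_option autoImplicit false
universe u

open CategoryTheory CategoryTheory.Limits AlgebraicGeometry TopologicalSpace Opposite Module

namespace K259.RatPt

theorem finrank_residueField_eq_one (k : Type u) [Field k] (X : Scheme.{u}) [X.Over (Spec (CommRingCat.of k))] (x : X)
    (h : Function.Surjective (Curv2.resMap k X x)) :
    letI := Curv2.resAlgebra k X x
    Module.finrank k (X.residueField x) = 1 := by
  let _ := Curv2.resAlgebra k X x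
  refine finrank_eq_one (1 : X.residueField x) one_ne_zero fun w => ?_
  obtain ⟨c, hc⟩ := h w
  refine ⟨c, ?_⟩
  rw [Algebra.smul_def, mul_one]
  exact hc

theorem exists_smooth_point (k : Type u) [Field k] [IsSepClosed k] (X : Scheme.{u}) [X.Over (Spec (CommRingCat.of k))]
    [LocallyOfFiniteType (X ↘ Spec (CommRingCat.of k))] [GeometricallyReduced (X ↘ Spec (CommRingCat.of k))] [Nonempty X] :
    ∃ O : Spec (CommRingCat.of k) ⟶ X, O ≫ (X ↘ Spec (CommRingCat.of k)) = 𝟙 _ ∧
      K708.RatPt.pt k O ∈ (X ↘ Spec (CommRingCat.of k)).smoothLocus := by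
  have hlfp : LocallyOfFinitePresentation (X ↘ Spec (CommRingCat.of k)) := inferInstance
  have hd := Groth.Agent.VarietyA.GeomRedSch.dense_smoothLocus k (X ↘ Spec (CommRingCat.of k))
  have i1 : LocallyOfFiniteType (Over.mk (X ↘ Spec (CommRingCat.of k))).hom :=
    inferInstanceAs (LocallyOfFiniteType (X ↘ Spec (CommRingCat.of k)))
  have i2 : GeometricallyReduced (Over.mk (X ↘ Spec (CommRingCat.of k))).hom :=
    inferInstanceAs (GeometricallyReduced (X ↘ Spec (CommRingCat.of k)))
  obtain ⟨z, hz⟩ := K396.SepClPts.exists_point (k := k) (K := k) (Z := Over.mk (X ↘ Spec (CommRingCat.of k)))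
    (X ↘ Spec (CommRingCat.of k)).smoothLocus hd.nonempty
  refine ⟨z.left, ?_, hz _⟩
  have h1 := Over.w z
  refine h1.trans ?_
  change Spec.map (CommRingCat.ofHom (algebraMap k k)) = 𝟙 _
  rw [Algebra.algebraMap_self]
  exact Spec.map_id _

theorem exists_uniformizer_of_mem_smoothLocus (k : Type u) [Field k] (X : Scheme.{u}) [X.Over (Spec (CommRingCat.of k))]
    [IsIntegral X] [LocallyOfFiniteType (X ↘ Spec (CommRingCat.of k))]
    (hdim : topologicalKrullDim X = 1) (x : X) (hx : IsClosed ({x} : Set X))
    (hs : letI hlfp : LocallyOfFinitePresentation (X ↘ Spec (CommRingCat.of k)) := inferInstance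
      x ∈ (X ↘ Spec (CommRingCat.of k)).smoothLocus) :
    ∃ ϖ : X.presheaf.stalk x, IsLocalRing.maximalIdeal (X.presheaf.stalk x) = Ideal.span {ϖ} ∧ ϖ ≠ 0 := by
  have hlfp : LocallyOfFinitePresentation (X ↘ Spec (CommRingCat.of k)) := inferInstance
  have hn : IsLocallyNoetherian X := LocallyOfFiniteType.isLocallyNoetherian (X ↘ Spec (CommRingCat.of k))
  have h1 : IsRegularLocalRing (X.presheaf.stalk x) :=
    Groth.Agent.VarietyA.RegSmoothSch.isRegularLocalRing_stalk_of_mem_smoothLocus _ x hs
  exact K314.PointDeg.exists_uniformizer hdim x hx (Groth.Agent.S9829.result _)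

end K259.RatPt
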