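import Groth.Agent.Curves.K259.PtTens
import Groth.Agent.Curves.K259.RatPt
import Groth.Agent.Curves.K259.LurothCurve
import Groth.Agent.VBPn.K700.HomVan
import Groth.Agent.CurvesC.KerSec
import Groth.Agent.S1564

/-!
# Two linearly equivalent rational points (helper259)

* `le_of_comp_eq_zero`: `I ⟶ O ⟶ O/J` zero implies `I ≤ J`;
* `h0_add_one_le`: a section of the middle term not coming from the left one;
* `exists_iso_P1_of_points`: a curve with two linearly equivalent points, one of them rational.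
-/

set_option autoImplicit false
universe u

open CategoryTheory CategoryTheory.Limits AlgebraicGeometry TopologicalSpace Opposite Module
open Groth.Agent Groth.Agent.CurvesC

namespace K259.TwoPts

theorem le_of_comp_eq_zero {X : Scheme.{u}} {I J : X.IdealSheafData}
    (h : ClSub.idealModι I ≫ ClSub.toSubscheme J = 0) : I ≤ J := by
  intro U s hs
  obtain ⟨a, ha⟩ := KerSec.exists_idealModι_app_eq I U s hs
  rw [← DualDeg.toSub_zero_iff]
  have h1 : (ClSub.idealModι I ≫ ClSub.toSubscheme J).app U.1 a = 0 := by rw [h]; rfl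
  change (ClSub.toSubscheme J).app U.1 ((ClSub.idealModι I).app U.1 a) = 0 at h1
  rw [ha] at h1
  exact h1

theorem h0_add_one_le (k : Type u) [Field k] (X : Scheme.{u}) [X.Over (Spec (CommRingCat.of k))]
    [IsProper (X ↘ Spec (CommRingCat.of k))] {S : ShortComplex X.Modules} (hS : S.ShortExact)
    (h₂ : Coh.IsCoh S.X₂) (u : Coh.structureModule X ⟶ S.X₂) (hu : u ≫ S.g ≠ 0) :
    Module.finrank k (Coh.HH X S.X₁ 0) + 1 ≤ Module.finrank k (Coh.HH X S.X₂ 0) := by
  have f2 : Module.Finite k (HV X S.X₂ 0) := K708.Coho.finite_HH k h₂ 0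
  have hm : Mono S.f := hS.mono_f
  have h1 : Function.Injective (HV.map k S.f 0) := K708.Coho.map_injective_of_mono k S.f
  let z : HV X S.X₂ 0 := (HV.zero S.X₂).symm (u.app ⊤ (KerSec.ofFun 1))
  have hz : HV.map k S.g 0 z ≠ 0 := by
    intro h
    apply hu
    apply KerSec.unit_hom_ext
    have h2 := HV.zero_map k S.g z
    rw [h, map_zero, AddEquiv.apply_symm_apply] at h2
    exact h2.symm
  have h3 : z ∉ LinearMap.range (HV.map k S.f 0) := by
    rintro ⟨w, hw⟩
    apply hz
    rw [← hw]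
    apply (HV.zero S.X₃).injective
    rw [HV.zero_map k S.g, HV.zero_map k S.f, map_zero]
    have h4 : (S.f ≫ S.g).app ⊤ (HV.zero S.X₁ w) = 0 := by rw [S.zero]; rfl
    exact h4
  have h5 : LinearMap.range (HV.map k S.f 0) ≠ ⊤ := fun h => h3 (h ▸ Submodule.mem_top)
  have h6 := Submodule.finrank_lt h5
  rw [LinearMap.finrank_range_of_inj h1] at h6
  exact h6

/-- The kernel of a rational point is the ideal of its image. -/
theorem ker_eq (k : Type u) [Field k] {X : Scheme.{u}} [X.Over (Spec (CommRingCat.of k))]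
    (O : Spec (CommRingCat.of k) ⟶ X) (hO : O ≫ (X ↘ Spec (CommRingCat.of k)) = 𝟙 _) :
    O.ker = (X.fromSpecResidueField (K708.RatPt.pt k O)).ker := by
  obtain ⟨ψ, h1⟩ : ∃ ψ : X.residueField (K708.RatPt.pt k O) ⟶ CommRingCat.of k,
      Spec.map ψ ≫ X.fromSpecResidueField (K708.RatPt.pt k O) = O :=
    ⟨(Scheme.SpecToEquivOfField k X O).2, (Scheme.SpecToEquivOfField k X).left_inv O⟩
  have h2 : CommRingCat.ofHom (Curv2.resMap k X (K708.RatPt.pt k O)) ≫ ψ = 𝟙 _ := by
    apply Spec.map_injective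
    rw [Spec.map_comp, VarietyA.ResMap.specMap_resMap, ← Category.assoc, h1, hO, Spec.map_id]
  have h3 : ∀ c : k, ψ.hom (Curv2.resMap k X (K708.RatPt.pt k O) c) = c := fun c => congr($h2 c)
  have h4 : IsIso ψ := by
    rw [ConcreteCategory.isIso_iff_bijective]
    exact ⟨ψ.hom.injective, fun c => ⟨_, h3 c⟩⟩
  conv_lhs => rw [← h1]
  exact Scheme.Hom.ker_comp_of_isIso _ _

/-- A rational point is determined by its image. -/
theorem eq_of_pt_eq (k : Type u) [Field k] {X : Scheme.{u}} [X.Over (Spec (CommRingCat.of k))]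
    (O O' : Spec (CommRingCat.of k) ⟶ X) (hO : O ≫ (X ↘ Spec (CommRingCat.of k)) = 𝟙 _)
    (hO' : O' ≫ (X ↘ Spec (CommRingCat.of k)) = 𝟙 _) (h : K708.RatPt.pt k O = K708.RatPt.pt k O') : O = O' := by
  have key : ∀ (x : X) (P : Spec (CommRingCat.of k) ⟶ X), P ≫ (X ↘ Spec (CommRingCat.of k)) = 𝟙 _ →
      K708.RatPt.pt k P = x → ∃ ψ : X.residueField x ⟶ CommRingCat.of k, Spec.map ψ ≫ X.fromSpecResidueField x = P ∧
        CommRingCat.ofHom (Curv2.resMap k X x) ≫ ψ = 𝟙 _ ∧ Function.Surjective (Curv2.resMap k X x) := by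
    rintro x P hP rfl
    obtain ⟨ψ, h1⟩ : ∃ ψ : X.residueField (K708.RatPt.pt k P) ⟶ CommRingCat.of k,
        Spec.map ψ ≫ X.fromSpecResidueField (K708.RatPt.pt k P) = P :=
      ⟨(Scheme.SpecToEquivOfField k X P).2, (Scheme.SpecToEquivOfField k X).left_inv P⟩
    refine ⟨ψ, h1, ?_, K708.RatPt.resMap_surjective k P hP⟩
    apply Spec.map_injective
    rw [Spec.map_comp, VarietyA.ResMap.specMap_resMap, ← Category.assoc, h1, hP, Spec.map_id]
  obtain ⟨ψ, h1, h2, h3⟩ := key _ O hO h
  obtain ⟨ψ', h1', h2', -⟩ := key _ O' hO' rfl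
  have h4 : ψ = ψ' := by
    ext a
    obtain ⟨c, rfl⟩ := h3 a
    exact (congr($h2 c)).trans (congr($h2' c)).symm
  exact h1.symm.trans ((congrArg
    (fun t => Spec.map t ≫ X.fromSpecResidueField (K708.RatPt.pt k O')) h4).trans h1')

theorem exists_iso_P1_of_points (k : Type u) [Field k] (X : Scheme.{u}) [X.Over (Spec (CommRingCat.of k))]
    [IsIntegral X] [IsProper (X ↘ Spec (CommRingCat.of k))] (hN : Pi1.IsNormalScheme X)
    (hdim : topologicalKrullDim X = 1) (x y : X) (hx : IsClosed ({x} : Set X)) (hy : IsClosed ({y} : Set X))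
    (hsx : Function.Surjective (Curv2.resMap k X x)) (hxy : x ≠ y)
    (φ : ClSub.idealMod (X.fromSpecResidueField x).ker ≅ ClSub.idealMod (X.fromSpecResidueField y).ker) :
    ∃ e : X ≅ CohB1.ProjSpace 1 k, e.hom ≫ CohB1.ProjSpace.toSpec 1 k = X ↘ (Spec (CommRingCat.of k)) := by
  have hn : IsLocallyNoetherian X := LocallyOfFiniteType.isLocallyNoetherian (X ↘ Spec (CommRingCat.of k))
  have hclx : IsClosedImmersion (X.fromSpecResidueField x) := isClosed_singleton_iff_isClosedImmersion.mp hx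
  have hcly : IsClosedImmersion (X.fromSpecResidueField y) := isClosed_singleton_iff_isClosedImmersion.mp hy
  obtain ⟨ϖ, h1, h2⟩ := K314.PointDeg.exists_uniformizer hdim x hx (hN x).2
  let D := (X.fromSpecResidueField x).ker
  let E := (X.fromSpecResidueField y).ker
  have hD : BlowUp.IsEffCartierIdeal D := Models.H55.PtDeg.isEff_ker_fromSpecResidueField x ϖ h1 h2
  have hDI : PicF.IsInvertible (ClSub.idealMod D) := Dix.IdealModCartier.isInvertible_idealMod hD
  obtain ⟨L, hL, ⟨e⟩⟩ := Groth.Agent.Grpsch.PicGrp.exists_inverse hDI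
  have hLD : ClSub.IsInverseOf L (ClSub.idealMod D) := ⟨Ega2.Tens.swap L (ClSub.idealMod D) ≪≫ e⟩
  have hdeg : Curv2.deg k X L 1 = 1 := by
    rw [Dix.InterNum.deg_of_effCartier k X hdim D hD L hLD, K314.PointDeg.finrank_quotMod_point,
      K259.RatPt.finrank_residueField_eq_one k X x hsx]
    rfl
  have h0 : Module.finrank k (Coh.HH X (Coh.structureModule X) 0) = 1 := by
    have := K314.P1Recog.finrank_dvd_deg k X hdim L 1
    rw [hdeg] at this
    exact K314.P1Recog.finrank_h0_eq_one_of_dvd k X this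
  have hG : (DCoh.tensorRightMod L).IsEquivalence :=
    K700.HomVan.isEquivalence_of_inv (Ega2.Tens.swap L (ClSub.idealMod D) ≪≫ e)
  have hS : ((VarietyB.RestrSeq.idealSeq E).map (DCoh.tensorRightMod L)).ShortExact :=
    (VarietyB.RestrSeq.idealSeq_shortExact E).map_of_exact (DCoh.tensorRightMod L)
  have hc2 : Coh.IsCoh ((VarietyB.RestrSeq.idealSeq E).map (DCoh.tensorRightMod L)).X₂ :=
    Fga.TwistCoh.isCoh_tensor (CurvesB.UnitCoh.isCoh_structureModule X) hL
  let u : Coh.structureModule X ⟶ ((VarietyB.RestrSeq.idealSeq E).map (DCoh.tensorRightMod L)).X₂ :=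
    e.inv ≫ (DCoh.tensorRightMod L).map (ClSub.idealModι D)
  have hu : u ≫ ((VarietyB.RestrSeq.idealSeq E).map (DCoh.tensorRightMod L)).g ≠ 0 := by
    intro h
    have h3 : e.inv ≫ (DCoh.tensorRightMod L).map (ClSub.idealModι D ≫ ClSub.toSubscheme E) = 0 := by
      rw [Functor.map_comp]
      exact (Category.assoc _ _ _).symm.trans h
    have h4 : (DCoh.tensorRightMod L).map (ClSub.idealModι D ≫ ClSub.toSubscheme E) = 0 := by
      exact (cancel_epi (f := e.inv) (g := (DCoh.tensorRightMod L).map (ClSub.idealModι D ≫ ClSub.toSubscheme E))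
        (h := 0)).1 (h3.trans comp_zero.symm)
    have h5 : ClSub.idealModι D ≫ ClSub.toSubscheme E = 0 :=
      (DCoh.tensorRightMod L).map_injective (by rw [h4, Functor.map_zero])
    have h6 : D ≤ E := le_of_comp_eq_zero h5
    have h7 : E.support ≤ D.support := Scheme.IdealSheafData.support_antitone h6
    have h8 : y ∈ E.support := by
      have h9 : y ∈ (X.fromSpecResidueField y).ker.support := by
        rw [← SetLike.mem_coe, Scheme.Hom.support_ker]
        apply subset_closure
        rw [Scheme.range_fromSpecResidueField]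
        rfl
      exact h9
    have h9 : y ∈ (X.fromSpecResidueField x).ker.support := h7 h8
    rw [← SetLike.mem_coe, Scheme.Hom.support_ker, Scheme.range_fromSpecResidueField, hx.closure_eq] at h9
    exact hxy h9.symm
  have h3 := h0_add_one_le k X hS hc2 u hu
  have e1 : CohB1.tensorMod (ClSub.idealMod E) L ≅ Coh.structureModule X :=
    (DCoh.tensorRightMod L).mapIso φ.symm ≪≫ e
  have h4 : Module.finrank k (Coh.HH X (CohB1.tensorMod (ClSub.idealMod E) L) 0) = 1 :=
    (K259.PtTens.h0_congr k X e1 0).trans h0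
  have h5 : Module.finrank k (Coh.HH X (CohB1.tensorMod (Coh.structureModule X) L) 0) =
      Module.finrank k (Coh.HH X L 0) := K259.PtTens.h0_congr k X (Ega2.Tens.lunit L) 0
  have h6 : 2 ≤ Module.finrank k (Coh.HH X L 0) := by
    rw [← h5]
    have h7 : Module.finrank k (Coh.HH X (CohB1.tensorMod (ClSub.idealMod E) L) 0) + 1 ≤
      Module.finrank k (Coh.HH X (CohB1.tensorMod (Coh.structureModule X) L) 0) := h3
    omega
  have hnt : Nontrivial (Coh.HH X L 0) := by
    rw [← not_subsingleton_iff_nontrivial]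
    intro hss
    rw [Module.finrank_zero_of_subsingleton] at h6
    omega
  obtain ⟨h7, h8⟩ := Groth.Agent.S1564.result k X hdim h0 L hL hnt
  have hg : Curv2.genus k X = 0 := h8 (by rw [hdeg] at h7 ⊢; omega) (by rw [hdeg]; exact one_pos)
  exact K314.P1Recog.exists_iso_of_h0 k X hdim h0 hg L hL hdeg

end K259.TwoPts
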